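-- Maschke's theorem for coprime actions on finite abelian groups (MulDistribMulAction form).
import Mathlib

set_option autoImplicit false

namespace Cfsg.Agent.Lib.Helper90

open Subgroup

section maschke
variable {A V : Type*} [Group A] [CommGroup V] [MulDistribMulAction A V]

/-- **Maschke** (averaging): under a coprime action on a finite abelian group, an invariant subgroup
that has a complement has an invariant complement. -/
theorem maschke_abelian [Finite A] [Finite V] (hcop : (Nat.card A).Coprime (Nat.card V))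
    (U W₀ : Subgroup V) (hU : ∀ a : A, ∀ x ∈ U, a • x ∈ U) (hdisj : U ⊓ W₀ = ⊥)
    (hsup : U ⊔ W₀ = ⊤) :
    ∃ W : Subgroup V, (∀ a : A, ∀ x ∈ W, a • x ∈ W) ∧ U ⊓ W = ⊥ ∧ U ⊔ W = ⊤ := by
  classical
  have : Fintype A := Fintype.ofFinite A
  -- the projection onto `U` along `W₀`
  have hex : ∀ v : V, ∃ u ∈ U, ∃ w ∈ W₀, u * w = v := by
    intro v
    have hv : v ∈ U ⊔ W₀ := hsup ▸ mem_top v
    exact mem_sup.mp hv
  have huniq : ∀ u ∈ U, ∀ w ∈ W₀, ∀ u' ∈ U, ∀ w' ∈ W₀, u * w = u' * w' → u = u' := by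
    intro u hu w hw u' hu' w' hw' h
    have h1 : u'⁻¹ * u = w' * w⁻¹ := by
      rw [eq_mul_inv_iff_mul_eq, mul_assoc, h, inv_mul_cancel_left]
    have h2 : u'⁻¹ * u ∈ U ⊓ W₀ :=
      mem_inf.mpr ⟨U.mul_mem (U.inv_mem hu') hu, h1 ▸ W₀.mul_mem hw' (W₀.inv_mem hw)⟩
    rw [hdisj, mem_bot] at h2
    exact (inv_mul_eq_one.mp h2).symm
  choose π hπU w hwW hπw using hex
  have hπ_eq : ∀ v, ∀ u ∈ U, ∀ w' ∈ W₀, u * w' = v → π v = u := by
    intro v u hu w' hw' h
    exact huniq _ (hπU v) _ (hwW v) u hu w' hw' ((hπw v).trans h.symm)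
  have hπ_mul : ∀ v v', π (v * v') = π v * π v' := by
    intro v v'
    apply hπ_eq _ _ (U.mul_mem (hπU v) (hπU v')) (w v * w v') (W₀.mul_mem (hwW v) (hwW v'))
    calc π v * π v' * (w v * w v') = (π v * w v) * (π v' * w v') := by
          rw [mul_mul_mul_comm]
      _ = v * v' := by rw [hπw, hπw]
  have hπ_U : ∀ u ∈ U, π u = u := fun u hu => hπ_eq u u hu 1 W₀.one_mem (mul_one u)
  -- the averaged map
  let ψ : V →* V :=
    { toFun := fun v => ∏ a : A, a • π (a⁻¹ • v)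
      map_one' := by
        have h1 : π 1 = 1 := hπ_U 1 U.one_mem
        simp [h1]
      map_mul' := by
        intro v v'
        rw [← Finset.prod_mul_distrib]
        refine Finset.prod_congr rfl fun a _ => ?_
        rw [smul_mul', hπ_mul, smul_mul'] }
  have hψ : ∀ v, ψ v = ∏ a : A, a • π (a⁻¹ • v) := fun v => rfl
  have hψU : ∀ v, ψ v ∈ U := by
    intro v
    rw [hψ]
    exact U.prod_mem fun a _ => hU a _ (hπU _)
  have hψ_on : ∀ u ∈ U, ψ u = u ^ Nat.card A := by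
    intro u hu
    rw [hψ]
    have : ∀ a : A, a • π (a⁻¹ • u) = u := by
      intro a
      rw [hπ_U _ (hU a⁻¹ u hu), smul_inv_smul]
    simp [this, Nat.card_eq_fintype_card]
  have hψ_smul : ∀ (b : A) (v : V), ψ (b • v) = b • ψ v := by
    intro b v
    rw [hψ, hψ, Finset.smul_prod']
    rw [← Equiv.prod_comp (Equiv.mulLeft b) (fun a => a • π (a⁻¹ • b • v))]
    refine Finset.prod_congr rfl fun a _ => ?_
    simp only [Equiv.coe_mulLeft, mul_inv_rev, mul_smul, inv_smul_smul]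
  have hcopU : ∀ u ∈ U, u ^ Nat.card A = 1 → u = 1 := by
    intro u hu h
    have h1 : orderOf u ∣ Nat.card A := orderOf_dvd_of_pow_eq_one h
    have h2 : orderOf u ∣ Nat.card V := orderOf_dvd_natCard u
    have h3 : orderOf u = 1 := Nat.eq_one_of_dvd_coprimes hcop h1 h2
    exact orderOf_eq_one_iff.mp h3
  refine ⟨ψ.ker, ?_, ?_, ?_⟩
  · intro a x hx
    rw [MonoidHom.mem_ker] at hx ⊢
    rw [hψ_smul, hx, smul_one]
  · rw [eq_bot_iff]
    intro u hu
    obtain ⟨hu1, hu2⟩ := mem_inf.mp hu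
    rw [MonoidHom.mem_ker, hψ_on u hu1] at hu2
    rw [mem_bot]
    exact hcopU u hu1 hu2
  · rw [eq_top_iff]
    intro v _
    -- choose `u' ∈ U` with `u' ^ |A| = ψ v`
    have hcopU' : (Nat.card U).Coprime (Nat.card A) :=
      (Nat.Coprime.coprime_dvd_right (card_subgroup_dvd_card U) hcop).symm
    obtain ⟨u', hu'⟩ := (powCoprime hcopU').surjective ⟨ψ v, hψU v⟩
    have hu'' : (u' : V) ^ Nat.card A = ψ v := by
      have := congrArg Subtype.val hu'
      simpa using this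
    have hker : v * (u' : V)⁻¹ ∈ ψ.ker := by
      rw [MonoidHom.mem_ker, map_mul, map_inv, hψ_on _ u'.2, hu'', mul_inv_cancel]
    have : v = (u' : V) * (v * (u' : V)⁻¹) := by
      rw [mul_comm v, mul_inv_cancel_left]
    rw [this]
    exact mul_mem_sup u'.2 hker

/-- in a finite abelian group of prime exponent every subgroup has a complement. -/
theorem exists_compl_of_exponent_prime [Finite V] {p : ℕ} (hp : p.Prime) (hexp : ∀ v : V, v ^ p = 1)
    (U : Subgroup V) : ∃ W₀ : Subgroup V, U ⊓ W₀ = ⊥ ∧ U ⊔ W₀ = ⊤ := by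
  obtain ⟨W₀, -, hmax⟩ := Finite.exists_le_maximal (p := fun W : Subgroup V => U ⊓ W = ⊥)
    (a := ⊥) (inf_bot_eq U)
  refine ⟨W₀, hmax.1, ?_⟩
  rw [eq_top_iff]
  intro v _
  by_contra hv
  have hlt : W₀ < W₀ ⊔ zpowers v := by
    refine lt_of_le_of_ne le_sup_left ?_
    intro h
    apply hv
    apply mem_sup_right
    rw [h]
    exact mem_sup_right (mem_zpowers v)
  have hnew : U ⊓ (W₀ ⊔ zpowers v) = ⊥ := by
    rw [eq_bot_iff]
    intro x hx
    obtain ⟨hxU, hx2⟩ := mem_inf.mp hx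
    obtain ⟨w, hw, z, hz, rfl⟩ := mem_sup.mp hx2
    obtain ⟨k, rfl⟩ := mem_zpowers_iff.mp hz
    -- `v ^ k` lies in `U ⊔ W₀`
    have hvk : v ^ k ∈ U ⊔ W₀ := by
      have : v ^ k = (w * v ^ k) * w⁻¹ := by rw [mul_comm w, mul_inv_cancel_right]
      rw [this]
      exact mul_mem_sup hxU (W₀.inv_mem hw)
    by_cases hpk : (p : ℤ) ∣ k
    · obtain ⟨j, rfl⟩ := hpk
      have h1 : v ^ ((p : ℤ) * j) = 1 := by
        rw [zpow_mul, zpow_natCast, hexp, one_zpow]
      rw [h1, mul_one] at hxU ⊢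
      have : w ∈ U ⊓ W₀ := mem_inf.mpr ⟨hxU, hw⟩
      rwa [hmax.1] at this
    · exfalso
      apply hv
      have hcop : IsCoprime (p : ℤ) k :=
        (Int.prime_iff_natAbs_prime.mpr (by simpa using hp)).coprime_iff_not_dvd.mpr hpk
      obtain ⟨a, b, hab⟩ := hcop
      have h1 : v = (v ^ k) ^ b := by
        have h2 : v ^ (a * (p : ℤ) + b * k) = v := by rw [hab, zpow_one]
        rw [zpow_add, mul_comm a, zpow_mul, zpow_natCast, hexp, one_zpow, one_mul, mul_comm b,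
          zpow_mul] at h2
        exact h2.symm
      rw [h1]
      exact (U ⊔ W₀).zpow_mem hvk b
  exact hlt.ne (le_antisymm hlt.le (hmax.2 hnew hlt.le))

/-- **Maschke** for elementary abelian groups. -/
theorem maschke_elementary [Finite A] [Finite V] {p : ℕ} (hp : p.Prime) (hexp : ∀ v : V, v ^ p = 1)
    (hcop : (Nat.card A).Coprime (Nat.card V))
    (U : Subgroup V) (hU : ∀ a : A, ∀ x ∈ U, a • x ∈ U) :
    ∃ W : Subgroup V, (∀ a : A, ∀ x ∈ W, a • x ∈ W) ∧ U ⊓ W = ⊥ ∧ U ⊔ W = ⊤ := by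
  obtain ⟨W₀, h1, h2⟩ := exists_compl_of_exponent_prime hp hexp U
  exact maschke_abelian hcop U W₀ hU h1 h2

end maschke

end Cfsg.Agent.Lib.Helper90
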