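-- External (MulDistribMulAction) coprime actions: invariant Sylow subgroups, quotient actions,
-- Maschke on the Frattini quotient of a p-group.
import Mathlib
import Cfsg.Agent.S0023
import Cfsg.Agent.Lib.Helper90.Maschke
import Cfsg.Agent.Lib.Helper90.Frattini

set_option autoImplicit false

namespace Cfsg.Agent.Lib.Helper90

open Subgroup
open scoped commutatorElement

section ext
variable {A G : Type*} [Group A] [Group G] [MulDistribMulAction A G]

/-- **Coprime action** (external form): there is an `A`-invariant Sylow `p`-subgroup. -/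
theorem exists_invariant_sylow_ext [Finite A] [Finite G]
    (hcop : (Nat.card A).Coprime (Nat.card G)) (hsol : Group.IsSolvable A ∨ Group.IsSolvable G)
    (p : ℕ) [Fact p.Prime] :
    ∃ P : Sylow p G, ∀ a : A, ∀ x ∈ P, a • x ∈ P := by
  obtain ⟨φ, hφ⟩ : ∃ φ : A →* MulAut G, φ = MulDistribMulAction.toMulAut A G := ⟨_, rfl⟩
  have hφa : ∀ (a : A) (x : G), φ a x = a • x := by
    intro a x; rw [hφ]; rfl
  obtain ⟨K, hK⟩ : ∃ K : Subgroup (G ⋊[φ] A), K = (SemidirectProduct.inl : G →* G ⋊[φ] A).range :=
    ⟨_, rfl⟩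
  obtain ⟨A', hA'⟩ : ∃ A' : Subgroup (G ⋊[φ] A),
      A' = (SemidirectProduct.inr : A →* G ⋊[φ] A).range := ⟨_, rfl⟩
  have hKn : K.Normal := by
    rw [hK, SemidirectProduct.range_inl_eq_ker_rightHom]
    infer_instance
  have hAK : A' ≤ normalizer (K : Set (G ⋊[φ] A)) := by
    rw [normalizer_eq_top_iff.mpr hKn]
    exact le_top
  have hcK : Nat.card K = Nat.card G := by
    rw [hK]
    exact Nat.card_congr (MonoidHom.ofInjective SemidirectProduct.inl_injective).toEquiv.symm
  have hcA : Nat.card A' = Nat.card A := by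
    rw [hA']
    exact Nat.card_congr (MonoidHom.ofInjective SemidirectProduct.inr_injective).toEquiv.symm
  have hcop' : (Nat.card A').Coprime (Nat.card K) := by rw [hcK, hcA]; exact hcop
  have hsol' : Group.IsSolvable A' ∨ Group.IsSolvable K := by
    rcases hsol with h | h
    · left
      rw [hA']
      exact Group.isSolvable_of_surjective
        (MonoidHom.rangeRestrict_surjective (SemidirectProduct.inr : A →* G ⋊[φ] A))
    · right
      rw [hK]
      exact Group.isSolvable_of_surjective
        (MonoidHom.rangeRestrict_surjective (SemidirectProduct.inl : G →* G ⋊[φ] A))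
  have hfin : Finite (G ⋊[φ] A) := Finite.of_equiv _ SemidirectProduct.equivProd.symm
  obtain ⟨P', hP'⟩ := Cfsg.Agent.S0023.result A' K hAK hcop' hsol' p
  subst hK
  have hinj : Function.Injective
      (SemidirectProduct.inl : G →* G ⋊[φ] A).rangeRestrict := by
    intro x y hxy
    apply SemidirectProduct.inl_injective (φ := φ)
    exact congrArg Subtype.val hxy
  have hrange : (P' : Subgroup (SemidirectProduct.inl : G →* G ⋊[φ] A).range) ≤
      (SemidirectProduct.inl : G →* G ⋊[φ] A).rangeRestrict.range := by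
    rw [MonoidHom.range_eq_top.mpr (MonoidHom.rangeRestrict_surjective _)]
    exact le_top
  refine ⟨P'.comapOfInjective _ hinj hrange, ?_⟩
  intro a x hx
  have hx' : (SemidirectProduct.inl : G →* G ⋊[φ] A).rangeRestrict x ∈ P' := hx
  show (SemidirectProduct.inl : G →* G ⋊[φ] A).rangeRestrict (a • x) ∈ P'
  have ha : (SemidirectProduct.inr a : G ⋊[φ] A) ∈ A' := by
    rw [hA']; exact ⟨a, rfl⟩
  have hn := hP' ha
  have h1 : (SemidirectProduct.inl x : G ⋊[φ] A) ∈
      (P' : Subgroup (SemidirectProduct.inl : G →* G ⋊[φ] A).range).map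
        (SemidirectProduct.inl : G →* G ⋊[φ] A).range.subtype :=
    ⟨_, hx', rfl⟩
  have h2 := (mem_normalizer_iff.mp hn _).mp h1
  rw [← map_inv, ← SemidirectProduct.inl_aut, hφa] at h2
  obtain ⟨y, hy, hy2⟩ := h2
  have : y = (SemidirectProduct.inl : G →* G ⋊[φ] A).rangeRestrict (a • x) :=
    Subtype.ext hy2
  rw [← this]
  exact hy

/-- the action induced on the quotient by an invariant normal subgroup. -/
@[instance_reducible]
def quotientAction (N : Subgroup G) [N.Normal] (hN : ∀ a : A, ∀ x ∈ N, a • x ∈ N) :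
    MulDistribMulAction A (G ⧸ N) where
  smul a := QuotientGroup.map N N (MulDistribMulAction.toMonoidHom G a) (fun x hx => hN a x hx)
  one_smul v := by
    induction v using QuotientGroup.induction_on with
    | _ x =>
      show (((1 : A) • x : G) : G ⧸ N) = x
      rw [one_smul]
  mul_smul a b v := by
    induction v using QuotientGroup.induction_on with
    | _ x =>
      show (((a * b) • x : G) : G ⧸ N) = ((a • b • x : G) : G ⧸ N)
      rw [mul_smul]
  smul_mul a v w := map_mul _ v w
  smul_one a := map_one _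

theorem quotientAction_mk (N : Subgroup G) [N.Normal] (hN : ∀ a : A, ∀ x ∈ N, a • x ∈ N)
    (a : A) (x : G) :
    letI := quotientAction N hN
    a • (x : G ⧸ N) = ((a • x : G) : G ⧸ N) := rfl

/-- the Frattini subgroup is invariant under every action by automorphisms. -/
theorem smul_mem_frattini (a : A) (x : G) (hx : x ∈ frattini G) : a • x ∈ frattini G := by
  have h := (frattini_characteristic (G := G)).fixed (MulDistribMulAction.toMulAut A G a⁻¹)
  rw [← h, mem_comap]
  show a⁻¹ • a • x ∈ frattini G
  rw [inv_smul_smul]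
  exact hx

end ext

section pgroup
variable {G : Type*} [Group G] [Finite G]

/-- `p`-th powers lie in the Frattini subgroup of a finite `p`-group. -/
theorem pow_mem_frattini_of_isPGroup {p : ℕ} [Fact p.Prime] (hG : IsPGroup p G) (x : G) :
    x ^ p ∈ frattini G := by
  have hp : p.Prime := Fact.out
  have hnil : Group.IsNilpotent G := hG.isNilpotent
  rw [mem_frattini_iff']
  intro M hM
  have hMn : M.Normal :=
    Subgroup.NormalizerCondition.normal_of_coatom M Group.normalizerCondition_of_isNilpotent hM
  have hsub : ∀ L : Subgroup (G ⧸ M), L = ⊥ ∨ L = ⊤ := by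
    intro L
    have hML : M ≤ L.comap (QuotientGroup.mk' M) := by
      intro m hm
      rw [Subgroup.mem_comap, QuotientGroup.mk'_apply, (QuotientGroup.eq_one_iff m).mpr hm]
      exact L.one_mem
    rcases eq_or_lt_of_le hML with h | h
    · left
      rw [← Subgroup.map_comap_eq_self_of_surjective (QuotientGroup.mk'_surjective M) L, ← h,
        eq_bot_iff]
      rintro _ ⟨m, hm, rfl⟩
      rw [Subgroup.mem_bot, QuotientGroup.mk'_apply, QuotientGroup.eq_one_iff]
      exact hm
    · right
      rw [← Subgroup.map_comap_eq_self_of_surjective (QuotientGroup.mk'_surjective M) L,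
        hM.2 _ h, Subgroup.map_top_of_surjective _ (QuotientGroup.mk'_surjective M)]
  rw [← QuotientGroup.eq_one_iff, QuotientGroup.mk_pow]
  obtain ⟨y, hy⟩ : ∃ y : G ⧸ M, y = (x : G ⧸ M) := ⟨_, rfl⟩
  rw [← hy]
  rcases hsub (zpowers (y ^ p)) with h | h
  · exact zpowers_eq_bot.mp h
  · have hmem : y ∈ zpowers (y ^ p) := h ▸ mem_top y
    obtain ⟨k, hk⟩ := mem_zpowers_iff.mp hmem
    -- `y ^ (p * k - 1) = 1`, and the order of `y` is a power of `p`
    have h1 : y ^ ((p : ℤ) * k - 1) = 1 := by
      rw [zpow_sub, zpow_mul, zpow_natCast, hk, zpow_one, mul_inv_cancel]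
    have hyG : IsPGroup p (G ⧸ M) := hG.to_quotient M
    obtain ⟨j, hj⟩ := hyG y
    have h2 : (orderOf y : ℤ) ∣ (p : ℤ) * k - 1 := orderOf_dvd_iff_zpow_eq_one.mpr h1
    have h3 : orderOf y ∣ p ^ j := orderOf_dvd_of_pow_eq_one hj
    obtain ⟨i, -, hi⟩ := (Nat.dvd_prime_pow hp).mp h3
    rcases Nat.eq_zero_or_pos i with h0 | hpos
    · rw [h0, pow_zero] at hi
      rw [orderOf_eq_one_iff.mp hi, one_pow]
    · exfalso
      have h4 : (p : ℤ) ∣ (orderOf y : ℤ) := by
        rw [hi]
        exact_mod_cast dvd_pow_self p hpos.ne'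
      have h5 : (p : ℤ) ∣ (p : ℤ) * k - 1 := h4.trans h2
      have h6 : (p : ℤ) ∣ 1 := by
        have := dvd_sub (dvd_mul_right (p : ℤ) k) h5
        simpa using this
      have h7 : p ∣ 1 := by exact_mod_cast h6
      exact hp.one_lt.ne' (Nat.dvd_one.mp h7)

end pgroup

section maschkeFrattini
variable {A G : Type*} [Group A] [Group G] [MulDistribMulAction A G]

/-- **Maschke on the Frattini quotient**: for a coprime action on a finite `p`-group, an invariant
subgroup `L ≥ Φ(G)` has an invariant supplement `W` with `W ∩ L = Φ(G)`. -/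
theorem exists_invariant_supplement_frattini [Finite A] [Finite G] {p : ℕ} [Fact p.Prime]
    (hG : IsPGroup p G) (hcop : (Nat.card A).Coprime (Nat.card G))
    (L : Subgroup G) (hL : ∀ a : A, ∀ x ∈ L, a • x ∈ L) (hΦ : frattini G ≤ L) :
    ∃ W : Subgroup G, (∀ a : A, ∀ x ∈ W, a • x ∈ W) ∧ frattini G ≤ W ∧
      W ⊓ L = frattini G ∧ W ⊔ L = ⊤ := by
  have hp : p.Prime := Fact.out
  have hnil : Group.IsNilpotent G := hG.isNilpotent
  let _i1 : MulDistribMulAction A (G ⧸ frattini G) :=
    quotientAction (frattini G) (fun a x hx => smul_mem_frattini a x hx)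
  have hcomm : ∀ v w : G ⧸ frattini G, v * w = w * v := by
    intro v w
    induction v using QuotientGroup.induction_on with
    | _ x =>
      induction w using QuotientGroup.induction_on with
      | _ y =>
        rw [← QuotientGroup.mk_mul, ← QuotientGroup.mk_mul, QuotientGroup.eq]
        apply commutator_le_frattini_of_isNilpotent
        have : (x * y)⁻¹ * (y * x) = ⁅y⁻¹, x⁻¹⁆ := by
          rw [commutatorElement_def]; group
        rw [this]
        exact Subgroup.commutator_mem_commutator (mem_top _) (mem_top _)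
  let _i2 : CommGroup (G ⧸ frattini G) :=
    { (inferInstance : Group (G ⧸ frattini G)) with mul_comm := hcomm }
  have hexp : ∀ v : G ⧸ frattini G, v ^ p = 1 := by
    intro v
    induction v using QuotientGroup.induction_on with
    | _ x =>
      rw [← QuotientGroup.mk_pow, QuotientGroup.eq_one_iff]
      exact pow_mem_frattini_of_isPGroup hG x
  have hcop' : (Nat.card A).Coprime (Nat.card (G ⧸ frattini G)) := by
    refine Nat.Coprime.coprime_dvd_right ?_ hcop
    rw [← Subgroup.index_eq_card]
    exact Subgroup.index_dvd_card _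
  have hU : ∀ a : A, ∀ v ∈ L.map (QuotientGroup.mk' (frattini G)),
      a • v ∈ L.map (QuotientGroup.mk' (frattini G)) := by
    rintro a _ ⟨x, hx, rfl⟩
    exact ⟨a • x, hL a x hx, rfl⟩
  obtain ⟨W, hWinv, hWdisj, hWsup⟩ :=
    maschke_elementary hp hexp hcop' (L.map (QuotientGroup.mk' (frattini G))) hU
  refine ⟨W.comap (QuotientGroup.mk' (frattini G)), ?_, ?_, ?_, ?_⟩
  · intro a x hx
    rw [mem_comap] at hx ⊢
    exact hWinv a _ hx
  · intro x hx
    rw [mem_comap, QuotientGroup.mk'_apply, (QuotientGroup.eq_one_iff x).mpr hx]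
    exact W.one_mem
  · apply le_antisymm
    · intro x hx
      obtain ⟨hx1, hx2⟩ := mem_inf.mp hx
      have h1 : (QuotientGroup.mk' (frattini G)) x ∈ L.map (QuotientGroup.mk' (frattini G)) ⊓ W :=
        mem_inf.mpr ⟨mem_map_of_mem _ hx2, hx1⟩
      rw [hWdisj, mem_bot, QuotientGroup.mk'_apply, QuotientGroup.eq_one_iff] at h1
      exact h1
    · refine le_inf ?_ hΦ
      intro x hx
      rw [mem_comap, QuotientGroup.mk'_apply, (QuotientGroup.eq_one_iff x).mpr hx]
      exact W.one_mem
  · rw [eq_top_iff]
    intro g _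
    have hg : (QuotientGroup.mk' (frattini G)) g ∈ L.map (QuotientGroup.mk' (frattini G)) ⊔ W :=
      hWsup ▸ mem_top _
    obtain ⟨u, hu, w, hw, huw⟩ := mem_sup.mp hg
    obtain ⟨l, hl, rfl⟩ := hu
    have hw' : l⁻¹ * g ∈ W.comap (QuotientGroup.mk' (frattini G)) := by
      rw [mem_comap, map_mul, map_inv, ← huw, inv_mul_cancel_left]
      exact hw
    have : g = l * (l⁻¹ * g) := by group
    rw [this, sup_comm]
    exact mul_mem_sup hl hw'

end maschkeFrattini

end Cfsg.Agent.Lib.Helper90
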