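import Mathlib

set_option autoImplicit false

namespace Cfsg.Agent.Lib.Helper90

/-- A proper subgroup `D` of a finite `p`-subgroup `T` is normalised by some element of `T`
outside `D`. -/
theorem exists_normalizing_not_mem {G : Type*} [Group G] [Finite G] (p : ℕ) [Fact p.Prime]
    (T D : Subgroup G) (hT : IsPGroup p T) (hDT : D ≤ T) (hne : D ≠ T) :
    ∃ y ∈ T, y ∉ D ∧ y ∈ Subgroup.normalizer (D : Set G) := by
  have hnil : Group.IsNilpotent T := hT.isNilpotent
  have hlt : D.subgroupOf T < ⊤ := by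
    rw [lt_top_iff_ne_top]
    intro h
    apply hne
    apply le_antisymm hDT
    intro x hx
    have : (⟨x, hx⟩ : T) ∈ D.subgroupOf T := by rw [h]; exact Subgroup.mem_top _
    exact Subgroup.mem_subgroupOf.mp this
  have hnc := Group.normalizerCondition_of_isNilpotent (G := T) (D.subgroupOf T) hlt
  obtain ⟨y, hyN, hyD⟩ := SetLike.exists_of_lt hnc
  refine ⟨(y : G), y.2, fun h => hyD (Subgroup.mem_subgroupOf.mpr h), ?_⟩
  apply Subgroup.mem_normalizer_fintype
  intro d hd
  have hdT : d ∈ T := hDT hd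
  have h1 := (Subgroup.mem_normalizer_iff.mp hyN ⟨d, hdT⟩).mp (Subgroup.mem_subgroupOf.mpr hd)
  exact Subgroup.mem_subgroupOf.mp h1

/-- Conjugate elements have centralisers of the same order. -/
theorem card_centralizer_conj {G : Type*} [Group G] (g z : G) :
    Nat.card (Subgroup.centralizer ({g * z * g⁻¹} : Set G))
      = Nat.card (Subgroup.centralizer ({z} : Set G)) := by
  have h : Subgroup.centralizer ({g * z * g⁻¹} : Set G)
      = (Subgroup.centralizer ({z} : Set G)).map (MulAut.conj g).toMonoidHom := by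
    ext x
    constructor
    · intro hx
      refine ⟨g⁻¹ * x * g, ?_, ?_⟩
      · show g⁻¹ * x * g ∈ Subgroup.centralizer ({z} : Set G)
        rw [Subgroup.mem_centralizer_iff]
        intro t ht
        rw [Set.mem_singleton_iff] at ht
        subst ht
        have h1 := Subgroup.mem_centralizer_iff.mp hx (g * t * g⁻¹) rfl
        calc t * (g⁻¹ * x * g) = g⁻¹ * ((g * t * g⁻¹) * x) * g := by group
          _ = g⁻¹ * (x * (g * t * g⁻¹)) * g := by rw [h1]
          _ = g⁻¹ * x * g * t := by group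
      · simp only [MulEquiv.toMonoidHom_eq_coe, MonoidHom.coe_coe, MulAut.conj_apply]
        group
    · rintro ⟨y, hy, rfl⟩
      rw [Subgroup.mem_centralizer_iff]
      intro t ht
      rw [Set.mem_singleton_iff] at ht
      subst ht
      have h1 := Subgroup.mem_centralizer_iff.mp hy z rfl
      simp only [MulEquiv.toMonoidHom_eq_coe, MonoidHom.coe_coe, MulAut.conj_apply]
      calc g * z * g⁻¹ * (g * y * g⁻¹) = g * (z * y) * g⁻¹ := by group
        _ = g * (y * z) * g⁻¹ := by rw [h1]
        _ = g * y * g⁻¹ * (g * z * g⁻¹) := by group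
  rw [h]
  exact Subgroup.card_map_of_injective (MulAut.conj g).injective

/-- `|H| * |K : H| = |K|`. -/
theorem card_mul_relIndex' {G : Type*} [Group G] (H K : Subgroup G) (hHK : H ≤ K) :
    Nat.card H * H.relIndex K = Nat.card K := by
  have := Subgroup.relIndex_mul_relIndex (⊥ : Subgroup G) H K bot_le hHK
  rwa [Subgroup.relIndex_bot_left, Subgroup.relIndex_bot_left] at this

/-- Three explicit cosets: a criterion for relative index three. -/
theorem relIndex_eq_three {G : Type*} [Group G] (H K : Subgroup G) (a b : G)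
    (ha : a ∈ K) (hb : b ∈ K) (haH : a ∉ H) (hbH : b ∉ H) (hab : a⁻¹ * b ∉ H)
    (hall : ∀ k ∈ K, k ∈ H ∨ a⁻¹ * k ∈ H ∨ b⁻¹ * k ∈ H) : H.relIndex K = 3 := by
  unfold Subgroup.relIndex
  rw [Subgroup.index_eq_card]
  have h01 : ((1 : K) : K ⧸ H.subgroupOf K) ≠ ((⟨a, ha⟩ : K) : K ⧸ H.subgroupOf K) := by
    intro h
    rw [QuotientGroup.eq, Subgroup.mem_subgroupOf] at h
    apply haH
    simpa using h
  have h02 : ((1 : K) : K ⧸ H.subgroupOf K) ≠ ((⟨b, hb⟩ : K) : K ⧸ H.subgroupOf K) := by
    intro h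
    rw [QuotientGroup.eq, Subgroup.mem_subgroupOf] at h
    apply hbH
    simpa using h
  have h12 : ((⟨a, ha⟩ : K) : K ⧸ H.subgroupOf K) ≠ ((⟨b, hb⟩ : K) : K ⧸ H.subgroupOf K) := by
    intro h
    rw [QuotientGroup.eq, Subgroup.mem_subgroupOf] at h
    apply hab
    simpa using h
  rw [← Set.ncard_univ, Set.ncard_eq_three]
  refine ⟨_, _, _, h01, h02, h12, ?_⟩
  ext c
  simp only [Set.mem_univ, Set.mem_insert_iff, Set.mem_singleton_iff, true_iff]
  obtain ⟨k, rfl⟩ := QuotientGroup.mk_surjective c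
  rcases hall k k.2 with h | h | h
  · left
    symm
    rw [QuotientGroup.eq, Subgroup.mem_subgroupOf]
    simpa using h
  · right; left
    symm
    rw [QuotientGroup.eq, Subgroup.mem_subgroupOf]
    simpa using h
  · right; right
    symm
    rw [QuotientGroup.eq, Subgroup.mem_subgroupOf]
    simpa using h

end Cfsg.Agent.Lib.Helper90
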