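import Mathlib
import Cfsg.Agent.S4709
import Cfsg.Agent.Lib.Helper79.ClassMult
import Cfsg.Agent.Lib.Helper79.Linear
import Cfsg.Agent.Lib.Helper79.DefectZeroTwo
import Cfsg.Agent.Lib.Helper17.Count
import Cfsg.Agent.Lib.Helper17.Simple
import Cfsg.Agent.Lib.Helper17.PrimeSylow

set_option autoImplicit false

/-!
# Brauer's degree equation for a Sylow subgroup of prime order

For a finite perfect group `G` with a Sylow `p`-subgroup `P` of order `p` and
`m = [N(P) : C(P)]`, `1 < m < p - 1`, the principal `p`-block (S4709) gives a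
"degree equation": integers `a i ≠ 0`, `d`, `δ = ±1` and degrees `x i`, `y` dividing `|G|`
with `x i ≡ a i (mod p)`,
`(d - δ)² + ((p-1)/m - 1) d² + 1 + ∑ a i² = m + 1` and
`(((p-1)/m) d - δ) y + 1 + ∑ a i x i = 0`.
This is Brauer's classical tool for excluding simple groups of a given order.
-/

namespace Cfsg.Agent.Lib.Helper90.BrauerDeg

open Cfsg

variable {G : Type*} [Group G]

/-- `N(P)/C(P)` is cyclic for `P` of prime order: `N(P)` is generated by `C(P)` and one element. -/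
theorem exists_gen_normalizer (p : ℕ) [Fact p.Prime] (P : Subgroup G) (hP : Nat.card P = p) :
    ∃ g : G, g ∈ Subgroup.normalizer (P : Set G) ∧
      Subgroup.centralizer (P : Set G) ⊔ Subgroup.zpowers g = Subgroup.normalizer (P : Set G) := by
  have hpp : p.Prime := Fact.out
  haveI hcyc : IsCyclic P := isCyclic_of_prime_card hP
  haveI : Fact (Nat.card P).Prime := ⟨hP ▸ hpp⟩
  haveI : IsCyclic (MulAut P) :=
    isCyclic_of_surjective (IsCyclic.mulAutMulEquiv P).symm.toMonoidHom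
      (IsCyclic.mulAutMulEquiv P).symm.surjective
  obtain ⟨γ, hγ⟩ := IsCyclic.exists_generator (α := P.normalizerMonoidHom.range)
  obtain ⟨n₀, hn₀⟩ := γ.2
  refine ⟨(n₀ : G), n₀.2, le_antisymm ?_ ?_⟩
  · refine sup_le (Subgroup.centralizer_le_normalizer _) ?_
    rw [Subgroup.zpowers_le]
    exact n₀.2
  · intro n hn
    have h1 := hγ ⟨P.normalizerMonoidHom ⟨n, hn⟩, ⟨_, rfl⟩⟩
    obtain ⟨k, hk⟩ := Subgroup.mem_zpowers_iff.mp h1
    have hk' : P.normalizerMonoidHom (n₀ ^ k) = P.normalizerMonoidHom ⟨n, hn⟩ := by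
      have := congrArg Subtype.val hk
      rw [map_zpow, hn₀]
      simpa using this
    have hker : (⟨n, hn⟩ : Subgroup.normalizer (P : Set G)) * (n₀ ^ k)⁻¹ ∈
        P.normalizerMonoidHom.ker := by
      rw [MonoidHom.mem_ker, map_mul, map_inv, hk', mul_inv_cancel]
    rw [Subgroup.normalizerMonoidHom_ker, Subgroup.mem_subgroupOf] at hker
    have hn_eq : n = (n * ((n₀ : G) ^ k)⁻¹) * (n₀ : G) ^ k := by group
    rw [hn_eq]
    refine Subgroup.mul_mem_sup ?_ (Subgroup.zpow_mem_zpowers _ k)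
    simpa using hker

variable [Finite G]

/-- The degree of an irreducible character that is constant `= a` on the nonidentity elements
of a subgroup of order `p` is congruent to `a` modulo `p`. -/
theorem degree_modEq {χ : G → ℂ} (hχ : Cfsg.IsIrrCharacter G χ) (p : ℕ) (P : Subgroup G)
    (hP : Nat.card P = p) (a : ℤ) (ha : ∀ y ∈ P, y ≠ 1 → χ y = (a : ℂ)) :
    (Cfsg.charDegree χ : ℤ) ≡ a [ZMOD p] := by
  classical
  letI : Fintype P := Fintype.ofFinite P
  obtain ⟨n, hn⟩ := Cfsg.Agent.Lib.Helper79.irr_sum_subgroup hχ P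
  obtain ⟨h1, -, -⟩ := Cfsg.Agent.Lib.Helper79.irr_charDegree hχ
  have hsum : ∑ w : P, χ (w : G) = χ 1 + ((p - 1 : ℕ) : ℂ) * (a : ℂ) := by
    rw [← Finset.add_sum_erase Finset.univ (fun w : P => χ (w : G)) (Finset.mem_univ 1)]
    congr 1
    rw [Finset.sum_congr rfl (g := fun _ => (a : ℂ))]
    · rw [Finset.sum_const, Finset.card_erase_of_mem (Finset.mem_univ _), Finset.card_univ,
        Fintype.card_eq_nat_card, hP, nsmul_eq_mul]
    · intro w hw
      have hw1 : w ≠ 1 := Finset.ne_of_mem_erase hw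
      exact ha w w.2 (fun h => hw1 (Subtype.ext h))
  rw [hsum, h1, hP] at hn
  have hp0 : 1 ≤ p := by
    rw [← hP]; exact Nat.card_pos
  have hz : (Cfsg.charDegree χ : ℤ) + ((p : ℤ) - 1) * a = (p : ℤ) * (n : ℤ) := by
    have h2 : ((p - 1 : ℕ) : ℂ) = (p : ℂ) - 1 := by
      rw [Nat.cast_sub hp0, Nat.cast_one]
    rw [h2] at hn
    exact_mod_cast hn
  rw [Int.modEq_iff_dvd]
  refine ⟨a - n, ?_⟩
  linear_combination (-1 : ℤ) * hz

/-- Brauer's degree equation. -/
theorem brauer_degrees (p : ℕ) [Fact p.Prime] (P : Sylow p G)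
    (hP : Nat.card (P : Subgroup G) = p) (m : ℕ) (hm1 : 1 < m) (hm2 : m + 1 < p)
    (hCN : (Subgroup.centralizer ((P : Subgroup G) : Set G)).relIndex
      (Subgroup.normalizer ((P : Subgroup G) : Set G)) = m)
    (hperf : commutator G = ⊤) :
    ∃ (k : ℕ) (a : Fin k → ℤ) (x : Fin k → ℕ) (d δ : ℤ) (y : ℕ),
      k + 1 ≤ m ∧ (δ = 1 ∨ δ = -1) ∧
      (∀ i, a i ≠ 0 ∧ x i ∣ Nat.card G ∧ x i ≠ 1 ∧ (x i : ℤ) ≡ a i [ZMOD p]) ∧
      0 < y ∧ y ∣ Nat.card G ∧
      (d - δ) ^ 2 + ((((p - 1) / m : ℕ) : ℤ) - 1) * d ^ 2 + 1 + ∑ i, a i ^ 2 = (m : ℤ) + 1 ∧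
      ((((p - 1) / m : ℕ) : ℤ) * d - δ) * (y : ℤ) + 1 + ∑ i, a i * (x i : ℤ) = 0 := by
  classical
  have hpp : p.Prime := Fact.out
  obtain ⟨M, hMmax, hMp⟩ :=
    Cfsg.Agent.Lib.Helper79.exists_maximal_ideal_natCast_mem p hpp.one_lt
  have hM : Cfsg.IsPModular p M := ⟨hpp, hMmax, hMp⟩
  haveI hcyc : IsCyclic (P : Subgroup G) := isCyclic_of_prime_card hP
  have hab : IsMulCommutative P :=
    ⟨⟨fun a b => (IsCyclic.commGroup (α := (P : Subgroup G))).mul_comm a b⟩⟩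
  have hP1 : Nat.card P ≠ 1 := by
    have : Nat.card P = p := hP
    rw [this]; exact hpp.one_lt.ne'
  have hm2' : m + 1 < Nat.card P := by
    have : Nat.card P = p := hP
    rw [this]; exact hm2
  have hgen := exists_gen_normalizer p (P : Subgroup G) hP
  have hcentP : ∀ y : G, y ∈ (P : Subgroup G) → y ≠ 1 → ∀ c : G, Commute c y →
      c ∈ Subgroup.centralizer ((P : Subgroup G) : Set G) := by
    intro y hy hy1 c hc
    have hz := Cfsg.Agent.Lib.Helper17.zpowers_eq_of_mem_of_card_prime hpp (P : Subgroup G) hP y hy hy1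
    rw [Subgroup.mem_centralizer_iff]
    intro w hw
    have hw' : w ∈ Subgroup.zpowers y := by rw [hz]; exact hw
    obtain ⟨j, rfl⟩ := Subgroup.mem_zpowers_iff.mp hw'
    exact ((hc.zpow_right j).eq).symm
  have hfrob : ∀ y : G, y ∈ (P : Subgroup G) → y ≠ 1 →
      Subgroup.centralizer ({y} : Set G) ⊓ Subgroup.normalizer ((P : Subgroup G) : Set G) =
        Subgroup.centralizer ((P : Subgroup G) : Set G) := by
    intro y hy hy1
    apply le_antisymm
    · intro c hc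
      rw [Subgroup.mem_inf] at hc
      refine hcentP y hy hy1 c ?_
      have := Subgroup.mem_centralizer_iff.mp hc.1 y rfl
      exact this.symm
    · intro c hc
      rw [Subgroup.mem_inf]
      refine ⟨?_, Subgroup.centralizer_le_normalizer _ hc⟩
      rw [Subgroup.mem_centralizer_iff]
      intro w hw
      rw [Set.mem_singleton_iff] at hw
      subst hw
      exact Subgroup.mem_centralizer_iff.mp hc w hy
  obtain ⟨s, X, Y, hs, -, -, hXcard, hYcard, ⟨χ₁, hχ₁X, hχ₁⟩, a, d, δ, ζ, hδ, hX, -, -, -, -,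
    hrel, -, hfinal⟩ := Cfsg.Agent.S4709.result p M hM P hab hP1 m hm1 hm2' hCN hgen hfrob
  -- a nonidentity element of P
  obtain ⟨y₀, hy₀P, hy₀1⟩ : ∃ y₀ : G, y₀ ∈ (P : Subgroup G) ∧ y₀ ≠ 1 := by
    have hne : (P : Subgroup G) ≠ ⊥ := by
      intro h
      have h1 : Nat.card (P : Subgroup G) = 1 := by rw [h]; exact Subgroup.card_bot
      rw [hP] at h1
      exact hpp.one_lt.ne' h1
    exact (Subgroup.ne_bot_iff_exists_ne_one.mp hne).imp
      (fun w hw => hw) |>.elim (fun w hw => ⟨(w : G), w.2, fun h => hw (Subtype.ext h)⟩)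
  have hpart : ∀ y : G, y ∈ (P : Subgroup G) → y ≠ 1 → Cfsg.IsPPart p y y := by
    intro y hy hy1
    refine ⟨1, mul_one y, Commute.one_right y, ⟨1, ?_⟩, ?_⟩
    · rw [pow_one]
      exact Cfsg.Agent.Lib.Helper17.orderOf_eq_of_mem_of_card_prime hpp (P : Subgroup G) hP y hy hy1
    · rw [orderOf_one]
      exact hpp.one_lt.ne' ∘ Nat.dvd_one.mp
  have hval : ∀ χ ∈ X, ∀ y : G, y ∈ (P : Subgroup G) → y ≠ 1 →
      (χ : G → ℂ) y = (a χ : ℂ) := fun χ hχ y hy hy1 => (hX χ hχ).2 y y (hpart y hy hy1) hy hy1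
  have ha1 : a χ₁ = 1 := by
    have h := hval χ₁ hχ₁X y₀ hy₀P hy₀1
    rw [hχ₁] at h
    have h' : (1 : ℂ) = (a χ₁ : ℂ) := h
    exact_mod_cast h'.symm
  have hχ₁1 : (χ₁ : G → ℂ) 1 = 1 := by rw [hχ₁]
  -- Y is nonempty
  have hr : 0 < (p - 1) / m := Nat.div_pos (by omega) (by omega)
  have hYne : Nat.card Y ≠ 0 := by
    have : Nat.card P = p := hP
    rw [hYcard, this]; exact hr.ne'
  obtain ⟨⟨η, hη⟩⟩ := (Nat.card_ne_zero.mp hYne).1
  -- index the nontrivial members of X by Fin k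
  have hXfin : X.Finite := Set.toFinite X
  have hSfin : (X \ {χ₁}).Finite := hXfin.subset Set.sdiff_subset
  haveI : Finite ↥(X \ {χ₁}) := hSfin.to_subtype
  letI : Fintype ↥(X \ {χ₁}) := Fintype.ofFinite _
  obtain ⟨k, hk⟩ : ∃ k, k = Nat.card ↥(X \ {χ₁}) := ⟨_, rfl⟩
  have e : ↥(X \ {χ₁}) ≃ Fin k := hk ▸ Finite.equivFin _
  have hk1 : k + 1 ≤ m := by
    have h1 : Nat.card X = X.ncard := Nat.card_coe_set_eq X
    have h2 : Nat.card ↥(X \ {χ₁}) = (X \ {χ₁}).ncard := Nat.card_coe_set_eq _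
    have h3 := Set.ncard_sdiff_singleton_add_one hχ₁X hXfin
    omega
  have hsplit : ∀ f : Cfsg.IrrCharacter G → ℤ,
      ∑ᶠ χ ∈ X, f χ = f χ₁ + ∑ i : Fin k, f (e.symm i : Cfsg.IrrCharacter G) := by
    intro f
    have hins : X = insert χ₁ (X \ {χ₁}) := by
      rw [Set.insert_sdiff_singleton, Set.insert_eq_of_mem hχ₁X]
    conv_lhs => rw [hins]
    rw [finsum_mem_insert f (by simp) hSfin]
    congr 1
    rw [← finsum_set_coe_eq_finsum_mem, finsum_eq_sum_of_fintype]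
    exact (Equiv.sum_comp e.symm (fun j : ↥(X \ {χ₁}) => f (j : Cfsg.IrrCharacter G))).symm
  have hsplitC : ∀ f : Cfsg.IrrCharacter G → ℂ,
      ∑ᶠ χ ∈ X, f χ = f χ₁ + ∑ i : Fin k, f (e.symm i : Cfsg.IrrCharacter G) := by
    intro f
    have hins : X = insert χ₁ (X \ {χ₁}) := by
      rw [Set.insert_sdiff_singleton, Set.insert_eq_of_mem hχ₁X]
    conv_lhs => rw [hins]
    rw [finsum_mem_insert f (by simp) hSfin]
    congr 1
    rw [← finsum_set_coe_eq_finsum_mem, finsum_eq_sum_of_fintype]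
    exact (Equiv.sum_comp e.symm (fun j : ↥(X \ {χ₁}) => f (j : Cfsg.IrrCharacter G))).symm
  have hmem : ∀ i : Fin k, (e.symm i : Cfsg.IrrCharacter G) ∈ X ∧
      (e.symm i : Cfsg.IrrCharacter G) ≠ χ₁ := by
    intro i
    have := (e.symm i).2
    exact ⟨this.1, fun h => this.2 (by simpa using h)⟩
  obtain ⟨hη1, hηpos, hηdvd⟩ := Cfsg.Agent.Lib.Helper79.irr_charDegree η.2
  refine ⟨k, fun i => a (e.symm i : Cfsg.IrrCharacter G),
    fun i => Cfsg.charDegree ((e.symm i : Cfsg.IrrCharacter G) : G → ℂ), d, δ,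
    Cfsg.charDegree (η : G → ℂ), hk1, hδ, ?_, hηpos, hηdvd, ?_, ?_⟩
  · intro i
    obtain ⟨hiX, hi1⟩ := hmem i
    obtain ⟨h1, hpos, hdvd⟩ :=
      Cfsg.Agent.Lib.Helper79.irr_charDegree (e.symm i : Cfsg.IrrCharacter G).2
    refine ⟨(hX _ hiX).1, hdvd, ?_, ?_⟩
    · intro hdeg
      have hdeg' : Cfsg.charDegree ((e.symm i : Cfsg.IrrCharacter G) : G → ℂ) = 1 := hdeg
      apply hi1
      apply Subtype.ext
      rw [hχ₁]
      funext g
      have h11 : ((e.symm i : Cfsg.IrrCharacter G) : G → ℂ) 1 = 1 := by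
        rw [h1, hdeg']; simp
      exact Cfsg.Agent.Lib.Helper79.linear_irr_commutator (e.symm i : Cfsg.IrrCharacter G).2 h11
        (by rw [hperf]; exact Subgroup.mem_top g)
    · exact degree_modEq (e.symm i : Cfsg.IrrCharacter G).2 p (P : Subgroup G) hP _
        (hval _ hiX)
  · have h := hrel
    rw [hsplit (fun χ => a χ ^ 2), ha1] at h
    have hcard : Nat.card P = p := hP
    rw [hcard] at h
    have hdiv : ((p : ℤ) - 1) / (m : ℤ) = (((p - 1) / m : ℕ) : ℤ) := by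
      rw [Int.natCast_div, Nat.cast_sub hpp.one_lt.le, Nat.cast_one]
    rw [hdiv] at h
    linarith
  · have h := hfinal η hη 1 (by rw [orderOf_one]; exact hpp.one_lt.ne' ∘ Nat.dvd_one.mp)
    rw [hsplitC (fun χ => (a χ : ℂ) * (χ : G → ℂ) 1), ha1, hχ₁1, hη1] at h
    have hcard : Nat.card P = p := hP
    rw [hcard] at h
    have hterm : ∀ i : Fin k, (a (e.symm i : Cfsg.IrrCharacter G) : ℂ) *
        ((e.symm i : Cfsg.IrrCharacter G) : G → ℂ) 1 =
        ((a (e.symm i : Cfsg.IrrCharacter G) *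
          (Cfsg.charDegree ((e.symm i : Cfsg.IrrCharacter G) : G → ℂ) : ℤ) : ℤ) : ℂ) := by
      intro i
      have h1 := (Cfsg.Agent.Lib.Helper79.irr_charDegree (e.symm i : Cfsg.IrrCharacter G).2).1
      rw [h1, Int.cast_mul, Int.cast_natCast]
    rw [Finset.sum_congr rfl (fun i _ => hterm i)] at h
    generalize (p - 1) / m = r at h ⊢
    have : ((((r : ℤ) * d - δ) * (Cfsg.charDegree (η : G → ℂ) : ℤ) + 1 +
        ∑ i : Fin k, a (e.symm i : Cfsg.IrrCharacter G) *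
          (Cfsg.charDegree ((e.symm i : Cfsg.IrrCharacter G) : G → ℂ) : ℤ) : ℤ) : ℂ) = 0 := by
      push_cast
      push_cast at h
      linear_combination h
    exact_mod_cast this

omit [Finite G] in
/-- A simple group of non-prime order is perfect. -/
theorem commutator_eq_top_of_simple [IsSimpleGroup G] (hG : ¬ (Nat.card G).Prime) :
    commutator G = ⊤ := by
  rcases (inferInstance : (commutator G).Normal).eq_bot_or_eq_top with h | h
  · exfalso
    apply Cfsg.Agent.Lib.Helper17.not_comm_of_not_prime hG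
    have hc : Subgroup.center G = ⊤ := (commutator_eq_bot_iff_center_eq_top G).mp h
    refine ⟨⟨fun a b => ?_⟩⟩
    have hb : b ∈ Subgroup.center G := by rw [hc]; exact Subgroup.mem_top b
    exact Subgroup.mem_center_iff.mp hb a
  · exact h

/-- Brauer's degree equation in a simple group of non-prime order. -/
theorem brauer_simple [IsSimpleGroup G] (hG : ¬ (Nat.card G).Prime) (p : ℕ) [Fact p.Prime]
    (P : Sylow p G) (hP : Nat.card (P : Subgroup G) = p) (m : ℕ) (hm2 : m + 1 < p)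
    (hCN : (Subgroup.centralizer ((P : Subgroup G) : Set G)).relIndex
      (Subgroup.normalizer ((P : Subgroup G) : Set G)) = m) :
    ∃ (k : ℕ) (a : Fin k → ℤ) (x : Fin k → ℕ) (d δ : ℤ) (y : ℕ),
      k + 1 ≤ m ∧ (δ = 1 ∨ δ = -1) ∧
      (∀ i, a i ≠ 0 ∧ x i ∣ Nat.card G ∧ x i ≠ 1 ∧ (x i : ℤ) ≡ a i [ZMOD p]) ∧
      0 < y ∧ y ∣ Nat.card G ∧
      (d - δ) ^ 2 + ((((p - 1) / m : ℕ) : ℤ) - 1) * d ^ 2 + 1 + ∑ i, a i ^ 2 = (m : ℤ) + 1 ∧
      ((((p - 1) / m : ℕ) : ℤ) * d - δ) * (y : ℤ) + 1 + ∑ i, a i * (x i : ℤ) = 0 := by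
  obtain ⟨hr1, -, hr3, -⟩ := Cfsg.Agent.Lib.Helper17.relIndex_centralizer_sylow_prime hG p P hP
  rw [hCN] at hr1 hr3
  have hm0 : m ≠ 0 := by
    rintro rfl
    rw [zero_mul] at hr3
    exact Nat.card_pos.ne' hr3.symm
  exact brauer_degrees p P hP m (by omega) hm2 hCN (commutator_eq_top_of_simple hG)

end Cfsg.Agent.Lib.Helper90.BrauerDeg
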