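import Mathlib
import Cfsg.Prelude.Def_MonsterType

set_option autoImplicit false

namespace Cfsg.Agent.Lib.Helper90

/-- The `p`-core lies in every Sylow `p`-subgroup. -/
theorem pCore_le_sylow {G : Type*} [Group G] (p : ℕ) (P : Sylow p G) :
    Cfsg.pCore p G ≤ (P : Subgroup G) := by
  unfold Cfsg.pCore
  refine sSup_le ?_
  rintro N ⟨hN, hp⟩
  have := hN
  exact hp.le_sylow_of_normal P

/-- The `p`-core is a `p`-group. -/
theorem pCore_isPGroup {G : Type*} [Group G] (p : ℕ) [Fact p.Prime] :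
    IsPGroup p (Cfsg.pCore p G) := by
  obtain ⟨P⟩ : Nonempty (Sylow p G) := inferInstance
  exact P.isPGroup'.to_le (pCore_le_sylow p P)

/-- An element of a subgroup of odd order that is also a `2`-element is trivial. -/
theorem eq_one_of_mem_odd_of_two_pow {G : Type*} [Group G] [Finite G] (K : Subgroup G)
    (hK : Odd (Nat.card K)) (x : G) (hx : x ∈ K) (n : ℕ) (hn : x ^ (2 ^ n) = 1) : x = 1 := by
  have h1 : orderOf x ∣ 2 ^ n := orderOf_dvd_of_pow_eq_one hn
  have h2 : orderOf x ∣ Nat.card K := by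
    have := orderOf_dvd_natCard (⟨x, hx⟩ : K)
    rwa [Subgroup.orderOf_mk] at this
  have h3 : Nat.Coprime (2 ^ n) (Nat.card K) :=
    Nat.Coprime.pow_left n (Nat.coprime_two_left.mpr hK)
  have h4 : orderOf x = 1 := Nat.eq_one_of_dvd_coprimes h3 h1 h2
  exact orderOf_eq_one_iff.mp h4

/-- A subgroup of odd order meets a `2`-subgroup trivially. -/
theorem odd_inf_two_group {G : Type*} [Group G] [Finite G] (K P : Subgroup G)
    (hK : Odd (Nat.card K)) (hP : IsPGroup 2 P) : K ⊓ P = ⊥ := by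
  rw [eq_bot_iff]
  rintro x ⟨hxK, hxP⟩
  obtain ⟨n, hn⟩ := hP ⟨x, hxP⟩
  have hn' : x ^ (2 ^ n) = 1 := by
    have := congrArg Subtype.val hn
    simpa using this
  rw [Subgroup.mem_bot]
  exact eq_one_of_mem_odd_of_two_pow K hK x hxK n hn'

/-- An extraspecial subgroup is a `2`-group. -/
theorem isPGroup_of_extraspecial {G : Type*} [Group G] (Q : Subgroup G)
    (hQ : Cfsg.IsExtraspecial 2 ↥Q) : IsPGroup 2 ↥Q := hQ.1.1

/-- Core lemma: if `Q` is an extraspecial `2`-subgroup with `C_G(Q) = Z(Q)`, normalised by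
`C_G(Z(Q))`, and `K` is a subgroup of odd order normalised by `Q`, then `K` meets `C_G(Z(Q))`
trivially. -/
theorem odd_inf_centralizer_center {G : Type*} [Group G] [Finite G] (Q : Subgroup G)
    (hL1 : Cfsg.IsExtraspecial 2 ↥Q)
    (hL2 : Subgroup.centralizer (Q : Set G) = ((Subgroup.center ↥Q).map Q.subtype))
    (hL3 : Subgroup.centralizer (((Subgroup.center ↥Q).map Q.subtype) : Set G)
      ≤ Subgroup.normalizer (Q : Set G))
    (K : Subgroup G) (hK : Odd (Nat.card K)) (hQK : Q ≤ Subgroup.normalizer (K : Set G)) :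
    K ⊓ Subgroup.centralizer (((Subgroup.center ↥Q).map Q.subtype) : Set G) = ⊥ := by
  have hKQ : K ⊓ Q = ⊥ := odd_inf_two_group K Q hK (isPGroup_of_extraspecial Q hL1)
  rw [eq_bot_iff]
  rintro k ⟨hkK, hkC⟩
  have hkN : k ∈ Subgroup.normalizer (Q : Set G) := hL3 hkC
  -- k centralizes Q
  have hkQ : k ∈ Subgroup.centralizer (Q : Set G) := by
    rw [Subgroup.mem_centralizer_iff]
    intro q hq
    have hq' : q ∈ Q := hq
    have h1 : k * q * k⁻¹ * q⁻¹ ∈ Q := by
      have : k * q * k⁻¹ ∈ Q := (Subgroup.mem_normalizer_iff.mp hkN q).mp hq'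
      exact Q.mul_mem this (Q.inv_mem hq')
    have h2 : k * q * k⁻¹ * q⁻¹ ∈ K := by
      have hqN := hQK hq'
      have : q * k⁻¹ * q⁻¹ ∈ K := (Subgroup.mem_normalizer_iff.mp hqN k⁻¹).mp (K.inv_mem hkK)
      have h3 : k * (q * k⁻¹ * q⁻¹) ∈ K := K.mul_mem hkK this
      have h4 : k * q * k⁻¹ * q⁻¹ = k * (q * k⁻¹ * q⁻¹) := by group
      rw [h4]; exact h3
    have h5 : k * q * k⁻¹ * q⁻¹ ∈ K ⊓ Q := ⟨h2, h1⟩
    rw [hKQ, Subgroup.mem_bot] at h5
    have h6 : k * q = q * k := by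
      have : k * q * k⁻¹ * q⁻¹ * (q * k) = q * k := by rw [h5, one_mul]
      rw [← this]; group
    exact h6.symm
  rw [hL2] at hkQ
  have hkQ' : k ∈ Q := by
    obtain ⟨y, _, rfl⟩ := hkQ
    exact y.2
  have : k ∈ K ⊓ Q := ⟨hkK, hkQ'⟩
  rwa [hKQ] at this

end Cfsg.Agent.Lib.Helper90
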