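import Mathlib

set_option autoImplicit false

namespace Cfsg.Agent.Lib.Helper90

/-- Membership in a conjugate Sylow subgroup. -/
theorem mem_sylow_smul_iff {G : Type*} [Group G] {p : ℕ} (P : Sylow p G) (a r : G) :
    r ∈ ((a • P : Sylow p G) : Subgroup G) ↔ a⁻¹ * r * a ∈ (P : Subgroup G) := by
  rw [Sylow.coe_subgroup_smul, Subgroup.mem_pointwise_smul_iff_inv_smul_mem]
  have : (MulAut.conj a)⁻¹ • r = a⁻¹ * r * a := by
    rw [MulAut.smul_def, ← map_inv, MulAut.conj_apply, inv_inv]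
  rw [this]

/-- Every `p`-subgroup is conjugate into a given Sylow `p`-subgroup. -/
theorem exists_conj_mem_sylow {G : Type*} [Group G] [Finite G] {p : ℕ} [Fact p.Prime]
    (R : Sylow p G) (U : Subgroup G) (hU : IsPGroup p U) :
    ∃ c : G, ∀ u ∈ U, c * u * c⁻¹ ∈ (R : Subgroup G) := by
  obtain ⟨R', hR'⟩ := hU.exists_le_sylow
  obtain ⟨c, hc⟩ := MulAction.exists_smul_eq G R' R
  refine ⟨c, fun u hu => ?_⟩
  rw [← hc, mem_sylow_smul_iff]
  have : c⁻¹ * (c * u * c⁻¹) * c = u := by group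
  rw [this]
  exact hR' hu

/-- The cyclic subgroup generated by a `p`-element is a `p`-group. -/
theorem isPGroup_zpowers {G : Type*} [Group G] {p : ℕ} (u : G) (k : ℕ) (hu : u ^ p ^ k = 1) :
    IsPGroup p (Subgroup.zpowers u) := by
  rintro ⟨g, hg⟩
  obtain ⟨n, rfl⟩ := Subgroup.mem_zpowers_iff.mp hg
  refine ⟨k, ?_⟩
  apply Subtype.ext
  show (u ^ n) ^ p ^ k = 1
  rw [← zpow_natCast, ← zpow_mul, mul_comm, zpow_mul, zpow_natCast, hu, one_zpow]

/-- Conjugation preserves the order of an element. -/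
theorem orderOf_conj_eq {G : Type*} [Group G] (g x : G) : orderOf (g * x * g⁻¹) = orderOf x := by
  have := MulEquiv.orderOf_eq (MulAut.conj g) x
  rwa [MulAut.conj_apply] at this

end Cfsg.Agent.Lib.Helper90
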