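import Mathlib
import Cfsg.Agent.Lib.Helper90.ZZ
import Cfsg.Agent.S0741
import Cfsg.Agent.S0885

/-!
# The Feit step for S0732: `1 < d < p - 1` forces `2 d = p - 1`
-/

set_option autoImplicit false

namespace Cfsg.Agent.Lib.Helper90.ZG

open Equiv Cfsg.Agent.Lib.Helper5.Zass

theorem feit_step {p : ℕ} [Fact p.Prime] (H₁ : Subgroup (Perm (Option (ZMod p)))) (d₁ : ℕ)
    (hH : ZGood p d₁ H₁) (hNC : NC H₁) (hd1 : 1 < d₁) (hd2 : d₁ < p - 1) : 2 * d₁ = p - 1 := by
  have hp : p.Prime := Fact.out
  have hZ := hH.isZassenhaus hd1 hNC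
  have hab : (none : Option (ZMod p)) ≠ some 0 := by simp
  have hcard := hH.card_two_stab hab
  have hΩ : Fintype.card (Option (ZMod p)) = p + 1 := by rw [Fintype.card_option, ZMod.card]
  have hle : p - 1 ≤ 2 * d₁ := by
    rcases Nat.even_or_odd d₁ with heven | hodd
    · have h1 := Cfsg.Agent.S0741.result hZ hab (by rw [hcard]; exact heven)
      rw [hcard, hΩ] at h1
      omega
    · let t : H₁ := ⟨Tr 1, hH.tr_mem⟩
      have htord : orderOf t = p := by
        have h1 : orderOf (Tr (1 : ZMod p)) = p := by
          apply orderOf_eq_prime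
          · rw [Tr_pow, ZMod.natCast_self, Tr_zero]
          · intro h
            have := congrArg (fun π : Perm (Option (ZMod p)) => π (some 0)) h
            simp only [Tr_some, zero_add, Perm.coe_one, id_eq] at this
            have h2 : (1 : ZMod p) = 0 := Option.some.inj this
            have : Fact (1 < p) := ⟨hp.one_lt⟩
            exact one_ne_zero h2
        exact (Subgroup.orderOf_coe t).symm.trans h1
      have hval : ∀ u ∈ Subgroup.zpowers t, ∃ n : ℤ, (u : Perm (Option (ZMod p))) =
          Tr ((n : ZMod p)) := by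
        intro u hu
        obtain ⟨n, rfl⟩ := Subgroup.mem_zpowers_iff.1 hu
        refine ⟨n, ?_⟩
        rw [Subgroup.coe_zpow]
        exact Tr_zpow n
      have h1 := Cfsg.Agent.S0885.result hZ hab p d₁ hΩ hcard hodd (Subgroup.zpowers t)
        (by
          intro u hu
          obtain ⟨n, hn⟩ := hval u hu
          rw [MulAction.mem_stabilizer_iff]
          show (u : Perm (Option (ZMod p))) none = none
          rw [hn, Tr_none])
        (by rw [Nat.card_zpowers, htord, hΩ])
        (by
          intro u hu hu1 c hc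
          obtain ⟨n, hn⟩ := hval u hu
          have hc' : (u : Perm (Option (ZMod p))) c = c := hc
          cases c with
          | none => rfl
          | some x =>
            exfalso
            rw [hn, Tr_some] at hc'
            have h2 : x + (n : ZMod p) = x := Option.some.inj hc'
            have h3 : (n : ZMod p) = 0 := by linear_combination h2
            apply hu1
            apply Subtype.ext
            rw [hn, h3, Tr_zero]; rfl)
      rcases h1 with h1 | ⟨-, ⟨u, v, huv⟩, -⟩
      · exact h1
      · exfalso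
        apply huv
        obtain ⟨i, hi⟩ := Subgroup.mem_zpowers_iff.1 u.2
        obtain ⟨j, hj⟩ := Subgroup.mem_zpowers_iff.1 v.2
        apply Subtype.ext
        show (u : H₁) * (v : H₁) = (v : H₁) * (u : H₁)
        rw [← hi, ← hj, ← zpow_add, ← zpow_add, add_comm]
  obtain ⟨c, hc⟩ := hH.d_dvd
  have hc0 : c ≠ 0 := by
    rintro rfl
    have := hp.two_le
    omega
  have hc1 : c ≠ 1 := by
    rintro rfl
    omega
  have hc2 : 2 ≤ c := by omega
  have h2 : 2 * d₁ ≤ p - 1 := by
    calc 2 * d₁ = d₁ * 2 := by ring
    _ ≤ d₁ * c := Nat.mul_le_mul_left d₁ hc2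
    _ = p - 1 := hc.symm
  omega

end Cfsg.Agent.Lib.Helper90.ZG
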