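import Mathlib

/-!
# Abstract data for the character-theoretic part of S0732

A finite group `G` of order `(p + 1) p m` with a subgroup `N` of order `p m`, an embedding
`τ : ZMod p → G` of the additive group of `ZMod p` into `N`, and a homomorphism
`φ : N → (ZMod p)ˣ` with kernel the image of `τ` describing the conjugation action of `N`
on that image; the image of `τ` is a trivial-intersection subgroup with normaliser `N`, two
distinct conjugates of `N` meet in at most `m` elements, and `G` is the normal closure of the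
image of `τ`.
-/

set_option autoImplicit false

namespace Cfsg.Agent.Lib.Helper90.ZG

/-- Abstract data for the character-theoretic argument. -/
structure FData (G : Type*) [Group G] (p m : ℕ) where
  /-- the point stabiliser -/
  N : Subgroup G
  /-- the translations -/
  τ : ZMod p → G
  /-- the multiplier -/
  φ : N →* (ZMod p)ˣ
  τ_add : ∀ u v : ZMod p, τ (u + v) = τ u * τ v
  τ_inj : Function.Injective τ
  τ_mem : ∀ u : ZMod p, τ u ∈ N
  φ_τ : ∀ u : ZMod p, φ ⟨τ u, τ_mem u⟩ = 1
  ker : ∀ n : N, φ n = 1 → ∃ u : ZMod p, τ u = (n : G)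
  conj : ∀ (n : N) (u : ZMod p), (n : G) * τ u * (n : G)⁻¹ = τ ((φ n : ZMod p) * u)
  ti : ∀ g : G, g ∉ N → ∀ u v : ZMod p, g * τ u * g⁻¹ = τ v → u = 0
  cardN : Nat.card N = p * m
  cardG : Nat.card G = (p + 1) * p * m
  inter : ∀ x : G, x ∉ N → Nat.card {n : N // x⁻¹ * (n : G) * x ∈ N} ≤ m
  nc : ∀ M : Subgroup G, M.Normal → (∀ u : ZMod p, τ u ∈ M) → M = ⊤

end Cfsg.Agent.Lib.Helper90.ZG
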